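import Groth.Agent.PCFinFree31.Levels
import Mathlib.Algebra.Category.ModuleCat.ChangeOfRings
import Mathlib.RingTheory.AlgebraTower

/-! Finiteness of the levels when the restriction to the base is pseudo-coherent. -/

set_option autoImplicit false
set_option linter.style.haveILetI false
set_option linter.unusedSectionVars false
set_option backward.isDefEq.respectTransparency.types false
set_option maxHeartbeats 1000000

universe u

open CategoryTheory CategoryTheory.Limits CategoryTheory.Pretriangulated

attribute [local instance] HasDerivedCategory.standard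

namespace Groth.Agent.PCFinFree31

open Groth.Agent.DR39

variable (A : Type u) [CommRing A] {R : Type u} [Ring R] [Algebra A R]

/-- The underlying complex over the base. -/
noncomputable abbrev resCx (K : CochainComplex (ModuleCat.{u} R) ℤ) : DRing.Cx A :=
  ((ModuleCat.restrictScalars.{u} (algebraMap A R)).mapHomologicalComplex _).obj K

theorem exact_of_res (K : CochainComplex (ModuleCat.{u} R) ℤ) (j : ℤ) (h : IsZero ((resCx A K).homology j))
    (y : K.X j) (hy : (K.d j (j + 1)).hom y = 0) : y ∈ LinearMap.range (K.d (j - 1) j).hom :=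
  (isZero_homology_iff (resCx A K) j).1 h y hy

theorem restrict_FF [Module.Finite A R] [Module.Free A R] (M : ModuleCat.{u} R)
    (h : Module.Finite R M ∧ Module.Free R M) :
    FFp ((ModuleCat.restrictScalars.{u} (algebraMap A R)).obj M) := by
  let N : Type u := (ModuleCat.restrictScalars.{u} (algebraMap A R)).obj M
  letI : Module R N := M.isModule
  haveI : IsScalarTower A R N := IsScalarTower.of_algebraMap_smul fun _ _ => rfl
  haveI : Module.Finite R N := h.1
  haveI : Module.Free R N := h.2
  exact ⟨(Module.Finite.trans R N : Module.Finite A N),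
    (Module.Free.of_basis ((Module.Free.chooseBasis A R).smulTower (Module.Free.chooseBasis R N)) :
      Module.Free A N)⟩

variable (K : CochainComplex (ModuleCat.{u} R) ℤ) (b : ℤ)
  (hb : ∀ j, b < j → ∀ y : K.X j, (K.d j (j + 1)).hom y = 0 → y ∈ LinearMap.range (K.d (j - 1) j).hom)

theorem finite_levels [Module.Finite A R] [Module.Free A R] (hpc : ∀ m, PC m ((QA A).obj (resCx A K)))
    [PreservesFiniteLimits (ModuleCat.restrictScalars.{u} (algebraMap A R))]
    [PreservesFiniteColimits (ModuleCat.restrictScalars.{u} (algebraMap A R))] (i : ℤ) :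
    Module.Finite R ((cx K b hb).X i) := by
  suffices key : ∀ (k : ℕ) (j : ℤ), b < j + k → Module.Finite R ((cx K b hb).X j) from
    key (b - i + 1).toNat i (by omega)
  intro k
  induction k with
  | zero =>
    intro j hj
    haveI := ModuleCat.subsingleton_of_isZero (vanishesAbove K b hb j (by omega))
    exact Module.Finite.of_finite
  | succ k ih =>
    intro i hi
    by_cases hib : b < i
    · haveI := ModuleCat.subsingleton_of_isZero (vanishesAbove K b hb i hib)
      exact Module.Finite.of_finite
    suffices h : ∃ G : Gen (lev K b hb (i + 1)), Module.Finite R G.P by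
      show Module.Finite R (lev K b hb i).P
      rw [lev_of_le K b hb (by omega)]
      exact finite_gens _ h
    let F := ModuleCat.restrictScalars.{u} (algebraMap A R)
    let E : DRing.Cx A := resCx A (cx K b hb)
    let n := i + 1
    let g : cutGE E n ⟶ resCx A K := cutι E n ≫ (F.mapHomologicalComplex _).map (aug K b hb)
    haveI := quasiIso_aug K b hb
    haveI : QuasiIso ((F.mapHomologicalComplex (ComplexShape.up ℤ)).map (aug K b hb)) := inferInstance
    have hbff : BFF ((QA A).obj (cutGE E n)) := by
      refine ⟨n, b, cutGE E n, fun j hj => ?_, fun j => ?_, ⟨Iso.refl _⟩⟩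
      · rw [Set.mem_Icc, not_and_or, not_le, not_le] at hj
        rcases hj with hj | hj
        · exact isZero_cutGE E hj
        · exact isZero_cutGE_of_isZero E (F.map_isZero (vanishesAbove K b hb j hj))
      · by_cases hj : n ≤ j
        · haveI : IsIso ((cutι E n).f j) := (Groth.Agent.DR39.isIso_iff_bijective _).2 (cutι_bijective E hj)
          exact isModClass_FF.of_iso (asIso ((cutι E n).f j)).symm
            (restrict_FF A _ ⟨ih j (by omega), free K b hb j⟩)
        · exact isModClass_FF.of_isZero (isZero_cutGE E (by omega))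
    let T := (QA A).mapTriangle.obj (CochainComplex.mappingCone.triangle g)
    have hT : T ∈ distinguishedTriangles := DerivedCategory.mappingCone_triangle_distinguished g
    have hacyc : Acyc n T.obj₃ := (approx_iff_acyc T hT n).1 (by
      show Approx n ((QA A).map g)
      rw [Functor.map_comp]
      exact (approx_cutι E n).comp (Approx.of_isIso n _))
    have hfin : Module.Finite A ((CochainComplex.mappingCone g).homology i) := by
      haveI : Module.Finite A ((HF A i).obj ((QA A).obj (CochainComplex.mappingCone g))) :=
        finite_HF_top (m := i) (PC.obj₃ hT (pc_of_bff hbff) (hpc i)) hacyc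
      exact Module.Finite.equiv (HQIso (CochainComplex.mappingCone g) i).toLinearEquiv
    let C := CochainComplex.mappingCone g
    let fs : C.X i →ₗ[A] (cutGE E n).X n :=
      ((CochainComplex.mappingCone.fst g).1.v i n rfl).hom
    let sn : C.X i →ₗ[A] (resCx A K).X i :=
      ((CochainComplex.mappingCone.snd g).v i i (add_zero i)).hom
    let ψ : C.X i →ₗ[A] (resCx A K).X i × E.X n :=
      (-sn).prod (((cutι E n).f n).hom ∘ₗ fs)
    let cast' : (resCx A K).X i × E.X n → K.X i × (lev K b hb n).P := fun w => w
    have hd : ∀ v : C.X i, (C.d i n).hom v = 0 ↔ cast' (ψ v) ∈ W (lev K b hb n) := by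
      intro v
      have e1 : ((CochainComplex.mappingCone.fst g).1.v n (n + 1) rfl).hom ((C.d i n).hom v) =
          -((cutGE E n).d n (n + 1)).hom (fs v) := by
        refine (congrArg (fun F : C.X i ⟶ (cutGE E n).X (n + 1) => F.hom v)
          (CochainComplex.mappingCone.d_fst_v g i n (n + 1) rfl rfl)).trans ?_
        simp [fs]
      have e2 : ((CochainComplex.mappingCone.snd g).v n n (add_zero n)).hom ((C.d i n).hom v) =
          (g.f n).hom (fs v) + ((resCx A K).d i n).hom (sn v) :=
        congrArg (fun F : C.X i ⟶ (resCx A K).X n => F.hom v) (CochainComplex.mappingCone.d_snd_v g i n rfl)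
      have hzero : (C.d i n).hom v = 0 ↔
          ((CochainComplex.mappingCone.fst g).1.v n (n + 1) rfl).hom ((C.d i n).hom v) = 0 ∧
          ((CochainComplex.mappingCone.snd g).v n n (add_zero n)).hom ((C.d i n).hom v) = 0 := by
        refine ⟨fun h => by simp [h], fun ⟨h1, h2⟩ => ?_⟩
        have := congrArg (fun F : C.X n ⟶ C.X n => F.hom ((C.d i n).hom v))
          (CochainComplex.mappingCone.id_X g n (n + 1) rfl)
        simp only [ModuleCat.hom_add, ModuleCat.hom_comp, LinearMap.add_apply, LinearMap.comp_apply,
          ModuleCat.hom_id, LinearMap.id_apply, h1, h2, map_zero, add_zero] at this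
        exact this.symm
      rw [hzero, e1, e2, mem_W, neg_eq_zero]
      refine and_congr ?_ ?_
      · rw [((step K b hb n).ker _)]
        constructor
        · intro h
          have h' : (E.d n (n + 1)).hom (((cutι E n).f n).hom (fs v)) = 0 := by
            rw [← f_apply_d, h, map_zero]
          have h'' : ((cx K b hb).d n (n + 1)).hom (cast' (ψ v)).2 = 0 := h'
          rw [cx_d] at h''
          exact h''
        · intro h
          apply (cutι_bijective E (show n ≤ n + 1 by omega)).1
          rw [f_apply_d, map_zero]
          show ((cx K b hb).d n (n + 1)).hom (cast' (ψ v)).2 = 0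
          rw [cx_d]
          exact h
      · show (lev K b hb n).f (cast' (ψ v)).2 + (K.d i n).hom (cast' (sn v, (ψ v).2)).1 = 0 ↔
          (K.d i (i + 1)).hom (-(cast' (sn v, (ψ v).2)).1) = (lev K b hb n).f (cast' (ψ v)).2
        rw [map_neg, neg_eq_iff_add_eq_zero, add_comm]
    have hB : ∀ v : Zd C i, hcls C i v = 0 → cast' (ψ v) ∈ Bd (lev K b hb n) := by
      intro v hv
      obtain ⟨w, hw⟩ := (hcls_eq_zero_iff C i v).1 hv
      have hw0 : ((CochainComplex.mappingCone.fst g).1.v (i - 1) i (by omega)).hom w = 0 := by
        haveI := ModuleCat.subsingleton_of_isZero (isZero_cutGE E (show i < n by omega))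
        exact Subsingleton.elim _ _
      have e1 : fs ((C.d (i - 1) i).hom w) = 0 := by
        refine (congrArg (fun F : C.X (i - 1) ⟶ (cutGE E n).X n => F.hom w)
          (CochainComplex.mappingCone.d_fst_v g (i - 1) i n (by omega) rfl)).trans ?_
        simp [hw0]
      have e2 : sn ((C.d (i - 1) i).hom w) = ((resCx A K).d (i - 1) i).hom
          (((CochainComplex.mappingCone.snd g).v (i - 1) (i - 1) (add_zero _)).hom w) := by
        refine (congrArg (fun F : C.X (i - 1) ⟶ (resCx A K).X i => F.hom w)
          (CochainComplex.mappingCone.d_snd_v g (i - 1) i (by omega))).trans ?_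
        simp [hw0]
      rw [mem_Bd, ← hw]
      refine ⟨?_, ?_⟩
      · exact Submodule.neg_mem _ ⟨_, e2.symm⟩
      · show ((cutι E n).f n).hom (fs ((C.d (i - 1) i).hom w)) = (0 : E.X n)
        rw [e1, map_zero]
    obtain ⟨k', q, hq⟩ := Module.Finite.exists_fin' A (C.homology i)
    obtain ⟨γ, hγ⟩ := Module.projective_lifting_property (hcls C i) q (hcls_surjective C i)
    classical
    let χ : (Fin k' → A) →ₗ[A] (resCx A K).X i × E.X n := ψ ∘ₗ (Zd C i).subtype ∘ₗ γ
    let gR : (Fin k' → R) →ₗ[R] K.X i × (lev K b hb n).P :=
      Fintype.linearCombination R fun j => cast' (χ (Pi.single j 1))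
    refine ⟨{ P := ModuleCat.of R (Fin k' → R)
              free := inferInstanceAs (Module.Free R (Fin k' → R))
              g := gR
              memW := fun p => ?_
              gen := fun w hw => ?_ }, (inferInstance : Module.Finite R (Fin k' → R))⟩
    · simp only [gR, Fintype.linearCombination_apply]
      exact Submodule.sum_mem _ fun j _ => Submodule.smul_mem _ _ ((hd _).1 (γ (Pi.single j 1)).2)
    obtain ⟨z', hz'⟩ := (cutι_bijective E (le_refl n)).2 (w.2 : E.X n)
    let v : C.X i := ((CochainComplex.mappingCone.inl g).v n i (by omega)).hom z' -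
      ((CochainComplex.mappingCone.inr g).f i).hom (w.1 : (resCx A K).X i)
    have hψ : cast' (ψ v) = w := by
      have a1 : fs v = z' := by
        simp only [v, map_sub, fs]
        erw [congrArg (fun F : (cutGE E n).X n ⟶ (cutGE E n).X n => F.hom z')
            (CochainComplex.mappingCone.inl_v_fst_v g n i rfl),
          congrArg (fun F : (resCx A K).X i ⟶ (cutGE E n).X n => F.hom w.1)
            (CochainComplex.mappingCone.inr_f_fst_v g i n rfl)]
        simp
      have a2 : sn v = -(w.1 : (resCx A K).X i) := by
        simp only [v, map_sub, sn]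
        erw [congrArg (fun F : (cutGE E n).X n ⟶ (resCx A K).X i => F.hom z')
            (CochainComplex.mappingCone.inl_v_snd_v g n i (by omega)),
          congrArg (fun F : (resCx A K).X i ⟶ (resCx A K).X i => F.hom w.1)
            (CochainComplex.mappingCone.inr_f_snd_v g i)]
        simp
        rfl
      refine Prod.ext ?_ ?_
      · show -sn v = (w.1 : (resCx A K).X i)
        exact (congrArg Neg.neg a2).trans (neg_neg (w.1 : (resCx A K).X i))
      · show ((cutι E n).f n).hom (fs v) = (w.2 : E.X n)
        rw [a1, hz']
    have hv : (C.d i n).hom v = 0 := (hd v).2 (hψ ▸ hw)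
    obtain ⟨p, hp⟩ := hq (hcls C i ⟨v, hv⟩)
    refine ⟨fun j => algebraMap A R (p j), ?_⟩
    have hgp : gR (fun j => algebraMap A R (p j)) = cast' (χ p) := by
      have hlin : χ p = ∑ j, p j • χ (Pi.single j 1) := by
        conv_lhs => rw [pi_eq_sum_univ' p]
        simp only [map_sum, map_smul]
      rw [hlin]
      simp only [gR, Fintype.linearCombination_apply]
      rfl
    have := hB (⟨v, hv⟩ - γ p) (by
      rw [map_sub, sub_eq_zero, ← hp]
      exact (LinearMap.congr_fun hγ p).symm)
    have hsub : cast' (ψ (⟨v, hv⟩ - γ p : Zd C i)) = w - gR (fun j => algebraMap A R (p j)) := by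
      rw [hgp, ← hψ]
      show ψ ((⟨v, hv⟩ : Zd C i).1 - (γ p).1) = ψ v - χ p
      rw [map_sub]
      rfl
    rw [hsub] at this
    exact this

/-- The theorem. -/
theorem exists_finite_free [Module.Finite A R] [Module.Free A R]
    [PreservesFiniteLimits (ModuleCat.restrictScalars.{u} (algebraMap A R))]
    [PreservesFiniteColimits (ModuleCat.restrictScalars.{u} (algebraMap A R))]
    (M : DerivedCategory (ModuleCat.{u} R))
    (hM : DRing.IsPseudoCoherent' A (((ModuleCat.restrictScalars.{u} (algebraMap A R)).mapDerivedCategory).obj M)) :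
    ∃ (F : CochainComplex (ModuleCat.{u} R) ℤ) (b : ℤ), (∀ i : ℤ, b < i → IsZero (F.X i)) ∧
      (∀ i : ℤ, Module.Finite R (F.X i) ∧ Module.Free R (F.X i)) ∧ Nonempty (DerivedCategory.Q.obj F ≅ M) := by
  let K := DerivedCategory.Q.objPreimage M
  let e : DerivedCategory.Q.obj K ≅ M := DerivedCategory.Q.objObjPreimageIso M
  let Φ := (ModuleCat.restrictScalars.{u} (algebraMap A R))
  let eA : (QA A).obj (resCx A K) ≅ Φ.mapDerivedCategory.obj M :=
    (Φ.mapDerivedCategoryFactors.app K).symm ≪≫ Φ.mapDerivedCategory.mapIso e
  have hpc : ∀ m, PC m ((QA A).obj (resCx A K)) := fun m => (pc_of_pc' hM m).of_iso eA.symm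
  obtain ⟨b₀, hb₀⟩ := acyc_of_pc (hpc 0)
  have hb : ∀ j, b₀ < j → ∀ y : K.X j, (K.d j (j + 1)).hom y = 0 → y ∈ LinearMap.range (K.d (j - 1) j).hom :=
    fun j hj => exact_of_res A K j ((isZero_HF_Q_iff (resCx A K) j).1 (hb₀ j (by omega)))
  haveI := quasiIso_aug K b₀ hb
  exact ⟨cx K b₀ hb, b₀, vanishesAbove K b₀ hb,
    fun i => ⟨finite_levels A K b₀ hb hpc i, free K b₀ hb i⟩,
    ⟨asIso (DerivedCategory.Q.map (aug K b₀ hb)) ≪≫ e⟩⟩

end Groth.Agent.PCFinFree31
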