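import Groth.Agent.DR39.Resolution

/-! Resolutions by free modules over an algebra which is finite free over the base. -/

set_option autoImplicit false
set_option linter.style.haveILetI false
set_option linter.unusedSectionVars false

universe u

open CategoryTheory CategoryTheory.Limits CategoryTheory.Pretriangulated

attribute [local instance] HasDerivedCategory.standard

namespace Groth.Agent.PCFinFree31

open Groth.Agent.DR39

section Levels

variable {A : Type u} [Ring A]

/-- One level of a resolution. -/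
structure Lev (K : CochainComplex (ModuleCat.{u} A) ℤ) (i : ℤ) where
  P : ModuleCat.{u} A
  free : Module.Free A P
  f : P →ₗ[A] K.X i
  Z : Submodule A P
  cyc : ∀ z ∈ Z, (K.d i (i + 1)).hom (f z) = 0
  surj : ∀ y : K.X i, (K.d i (i + 1)).hom y = 0 →
    ∃ z ∈ Z, f z - y ∈ LinearMap.range (K.d (i - 1) i).hom

variable {K : CochainComplex (ModuleCat.{u} A) ℤ}

/-- The level in a degree where `K` is acyclic. -/
noncomputable def triv (i : ℤ)
    (hK : ∀ y : K.X i, (K.d i (i + 1)).hom y = 0 → y ∈ LinearMap.range (K.d (i - 1) i).hom) : Lev K i where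
  P := ModuleCat.of A PUnit
  free := Module.Free.of_subsingleton A _
  f := 0
  Z := ⊤
  cyc := fun _ _ => map_zero _
  surj y hy := ⟨0, trivial, by
    rw [map_zero, zero_sub]
    exact Submodule.neg_mem _ (hK y hy)⟩

variable {i : ℤ} (l' : Lev K (i + 1))

/-- Pairs compatible with the next level. -/
def W : Submodule A (K.X i × l'.P) :=
  l'.Z.comap (LinearMap.snd A _ _) ⊓
    LinearMap.ker ((K.d i (i + 1)).hom ∘ₗ LinearMap.fst A _ _ - l'.f ∘ₗ LinearMap.snd A _ _)

theorem mem_W (w : K.X i × l'.P) :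
    w ∈ W l' ↔ w.2 ∈ l'.Z ∧ (K.d i (i + 1)).hom w.1 = l'.f w.2 := by
  simp [W, sub_eq_zero]

/-- Irrelevant pairs. -/
def Bd : Submodule A (K.X i × l'.P) := (LinearMap.range (K.d (i - 1) i).hom).prod ⊥

theorem mem_Bd (w : K.X i × l'.P) :
    w ∈ Bd l' ↔ w.1 ∈ LinearMap.range (K.d (i - 1) i).hom ∧ w.2 = 0 := by
  simp [Bd, Submodule.mem_prod]

/-- Generators of pairs. -/
structure Gen where
  P : ModuleCat.{u} A
  free : Module.Free A P
  g : P →ₗ[A] K.X i × l'.P
  memW : ∀ p, g p ∈ W l'
  gen : ∀ w ∈ W l', ∃ p, w - g p ∈ Bd l'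

open Classical in
/-- A choice of generators, finite if possible. -/
noncomputable def gens : Gen l' :=
  if h : ∃ G : Gen l', Module.Finite A G.P then h.choose else
    { P := ModuleCat.of A (W l' →₀ A)
      free := inferInstanceAs (Module.Free A (W l' →₀ A))
      g := (W l').subtype ∘ₗ Finsupp.linearCombination A id
      memW := fun p => (Finsupp.linearCombination A id p).2
      gen := fun w hw => ⟨Finsupp.single ⟨w, hw⟩ 1, by simp⟩ }

theorem finite_gens (h : ∃ G : Gen l', Module.Finite A G.P) : Module.Finite A (gens l').P := by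
  unfold gens
  rw [dif_pos h]
  exact h.choose_spec

/-- The next level. -/
noncomputable def next : Lev K i where
  P := (gens l').P
  free := (gens l').free
  f := LinearMap.fst A _ _ ∘ₗ (gens l').g
  Z := LinearMap.ker (LinearMap.snd A _ _ ∘ₗ (gens l').g)
  cyc z hz := by
    obtain ⟨-, h⟩ := (mem_W l' _).1 ((gens l').memW z)
    exact h.trans ((congrArg l'.f hz).trans (map_zero _))
  surj y hy := by
    obtain ⟨p, hp⟩ := (gens l').gen (y, 0) ((mem_W l' _).2 ⟨Submodule.zero_mem _, by simp [hy]⟩)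
    rw [mem_Bd] at hp
    refine ⟨p, ?_, ?_⟩
    · simpa [LinearMap.mem_ker, sub_eq_zero, eq_comm] using hp.2
    · have := Submodule.neg_mem _ hp.1
      simpa using this

/-- The relation of consecutive levels. -/
structure Step (l : Lev K i) where
  d : l.P →ₗ[A] l'.P
  mem : ∀ p, d p ∈ l'.Z
  ker : ∀ p, p ∈ l.Z ↔ d p = 0
  comm : ∀ p, (K.d i (i + 1)).hom (l.f p) = l'.f (d p)
  inj : ∀ z ∈ l'.Z, l'.f z ∈ LinearMap.range (K.d i (i + 1)).hom → ∃ p, d p = z

/-- The step to the next level. -/
noncomputable def nextStep : Step l' (next l') where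
  d := LinearMap.snd A _ _ ∘ₗ (gens l').g
  mem p := ((mem_W l' _).1 ((gens l').memW p)).1
  ker p := Iff.rfl
  comm p := ((mem_W l' _).1 ((gens l').memW p)).2
  inj z hz hf := by
    obtain ⟨y, hy⟩ := hf
    obtain ⟨p, hp⟩ := (gens l').gen (y, z) ((mem_W l' _).2 ⟨hz, hy⟩)
    rw [mem_Bd] at hp
    exact ⟨p, (sub_eq_zero.1 hp.2).symm⟩

variable (K) (b : ℤ)
  (hb : ∀ j, b < j → ∀ y : K.X j, (K.d j (j + 1)).hom y = 0 → y ∈ LinearMap.range (K.d (j - 1) j).hom)

/-- All levels. -/
noncomputable def lev (i : ℤ) : Lev K i :=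
  if h : b < i then triv i (hb i h) else next (lev (i + 1))
termination_by (b + 1 - i).toNat
decreasing_by omega

theorem lev_of_le {i : ℤ} (h : i ≤ b) : lev K b hb i = next (lev K b hb (i + 1)) := by
  rw [lev, dif_neg (by omega)]

theorem lev_of_lt {i : ℤ} (h : b < i) : lev K b hb i = triv i (hb i h) := by
  rw [lev, dif_pos h]

theorem subsingleton_of_lt {i : ℤ} (h : b < i) : Subsingleton (lev K b hb i).P := by
  rw [lev_of_lt K b hb h]
  exact inferInstanceAs (Subsingleton PUnit)

theorem nonempty_step (i : ℤ) : Nonempty (Step (lev K b hb (i + 1)) (lev K b hb i)) := by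
  by_cases h : i ≤ b
  · rw [lev_of_le K b hb h]
    exact ⟨nextStep _⟩
  · rw [lev_of_lt K b hb (show b < i by omega), lev_of_lt K b hb (show b < i + 1 by omega)]
    exact ⟨{ d := 0
             mem := fun _ => trivial
             ker := fun _ => ⟨fun _ => rfl, fun _ => trivial⟩
             comm := fun _ => (map_zero (K.d i (i + 1)).hom : (K.d i (i + 1)).hom 0 = 0)
             inj := fun z _ _ => ⟨0, Subsingleton.elim (α := PUnit) _ _⟩ }⟩

/-- The chosen step. -/
noncomputable def step (i : ℤ) : Step (lev K b hb (i + 1)) (lev K b hb i) :=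
  (nonempty_step K b hb i).some

/-- The resolution. -/
noncomputable def cx : CochainComplex (ModuleCat.{u} A) ℤ :=
  CochainComplex.of (fun i => (lev K b hb i).P) (fun i => ModuleCat.ofHom (step K b hb i).d)
    fun i => ModuleCat.hom_ext (LinearMap.ext fun p =>
      ((step K b hb (i + 1)).ker _).1 ((step K b hb i).mem p))

theorem cx_d (i : ℤ) : (cx K b hb).d i (i + 1) = ModuleCat.ofHom (step K b hb i).d := by
  unfold cx
  exact CochainComplex.of_d (fun i => (lev K b hb i).P)
    (fun i => ModuleCat.ofHom (step K b hb i).d) i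

/-- The augmentation. -/
noncomputable def aug : cx K b hb ⟶ K where
  f i := ModuleCat.ofHom (lev K b hb i).f
  comm' i j hij := by
    change i + 1 = j at hij
    subst hij
    rw [cx_d]
    exact ModuleCat.hom_ext (LinearMap.ext (step K b hb i).comm)

theorem vanishesAbove : ∀ i, b < i → IsZero ((cx K b hb).X i) := fun i hi =>
  haveI := subsingleton_of_lt K b hb hi
  ModuleCat.isZero_of_subsingleton (lev K b hb i).P

theorem free (i : ℤ) : Module.Free A ((cx K b hb).X i) := (lev K b hb i).free

theorem quasiIso_aug : QuasiIso (aug K b hb) := by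
  refine ⟨fun i => quasiIsoAt_of_elements _ _ ?_ ?_⟩
  · obtain ⟨j, rfl⟩ : ∃ j, i = j + 1 := ⟨i - 1, by omega⟩
    intro x hx y hy
    rw [cx_d] at hx
    obtain ⟨p, hp⟩ := (step K b hb j).inj x (((step K b hb (j + 1)).ker x).2 hx) (by
      refine ⟨(K.XIsoOfEq (show j + 1 - 1 = j by omega)).hom y, ?_⟩
      rw [← LinearMap.comp_apply, ← ModuleCat.hom_comp, HomologicalComplex.XIsoOfEq_hom_comp_d]
      exact hy)
    refine ⟨(((cx K b hb).XIsoOfEq (show j = j + 1 - 1 by omega)).hom.hom) (p : (cx K b hb).X j), ?_⟩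
    refine (LinearMap.congr_fun (congrArg ModuleCat.Hom.hom
      ((cx K b hb).XIsoOfEq_hom_comp_d (show j = j + 1 - 1 by omega) (j + 1))) p).trans ?_
    rw [cx_d]
    exact hp
  · intro z hz
    obtain ⟨x, hx, hxz⟩ := (lev K b hb i).surj z hz
    refine ⟨x, ?_, hxz⟩
    rw [cx_d]
    exact ((step K b hb i).ker x).1 hx

end Levels

end Groth.Agent.PCFinFree31
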